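import Mathlib
import Cfsg.Agent.Lib.Helper49.HJO.Defs
import Cfsg.Agent.Lib.Helper22.Comp
import Cfsg.Agent.Lib.Helper93.LargeExtra

/-!
# HJO package [EXTRA]: `O_2(C(z))` is extraspecial of order 32 with centre `{1, z}`
-/

set_option autoImplicit false

namespace Cfsg.Agent.Lib.Helper16.HJO

open Cfsg.Agent.Lib.Helper49.HJO
open scoped commutatorElement

universe u

/-- In a finite group with `F*(H)` a 2-group, `O_2(H) = F*(H)`. -/
theorem pCore_eq_gfs {H : Type u} [Group H] [Finite H]
    (h2 : IsPGroup 2 ↥(Cfsg.generalizedFittingSubgroup H)) :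
    Cfsg.pCore 2 H = Cfsg.generalizedFittingSubgroup H := by
  have : Fact (Nat.Prime 2) := ⟨Nat.prime_two⟩
  apply le_antisymm
  · have hn : (Cfsg.pCore 2 H).Normal := Cfsg.Agent.Lib.Helper93.pCore_normal 2 H
    have hp : IsPGroup 2 ↥(Cfsg.pCore 2 H) := Cfsg.Agent.Lib.Helper93.pCore_isPGroup' H
    have hnil : Group.IsNilpotent ↥(Cfsg.pCore 2 H) := hp.isNilpotent
    have h1 : Cfsg.pCore 2 H ≤ Cfsg.fittingSubgroup H := le_sSup ⟨hn, hnil⟩
    exact h1.trans le_sup_right
  · exact le_sSup ⟨Cfsg.Agent.Lib.Helper22.generalizedFittingSubgroup_normal' H, h2⟩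

/-- Elementwise facts about an extraspecial 2-subgroup `O` with a known central involution. -/
theorem extra_facts {H : Type u} [Group H] [Finite H] (O : Subgroup H)
    (hex : Cfsg.IsExtraspecial 2 ↥O) (z' : H) (hzO : z' ∈ O) (hz1 : z' ≠ 1)
    (hzc : ∀ v ∈ O, v * z' = z' * v) :
    (∀ v ∈ O, (∀ w ∈ O, v * w = w * v) → v = 1 ∨ v = z') ∧
    (∀ v ∈ O, ∀ w ∈ O, v * w = w * v ∨ v * w = z' * (w * v)) ∧
    (∀ v ∈ O, v * v = 1 ∨ v * v = z') := by
  obtain ⟨⟨hP, hF, hD⟩, hcard⟩ := hex
  have hzcen : (⟨z', hzO⟩ : O) ∈ Subgroup.center O := by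
    rw [Subgroup.mem_center_iff]
    rintro ⟨v, hv⟩
    apply Subtype.ext
    exact hzc v hv
  have hcen : ∀ c : O, c ∈ Subgroup.center O → (c : H) = 1 ∨ (c : H) = z' := by
    intro c hc
    rw [Nat.card_eq_two_iff' (1 : Subgroup.center O)] at hcard
    obtain ⟨y, hy, huniq⟩ := hcard
    by_cases h1 : (c : H) = 1
    · exact Or.inl h1
    · right
      have e1 : (⟨c, hc⟩ : Subgroup.center O) = y := by
        apply huniq
        intro h
        apply h1
        have := congrArg (fun t : Subgroup.center O => ((t : O) : H)) h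
        simpa using this
      have e2 : (⟨⟨z', hzO⟩, hzcen⟩ : Subgroup.center O) = y := by
        apply huniq
        intro h
        apply hz1
        have := congrArg (fun t : Subgroup.center O => ((t : O) : H)) h
        simpa using this
      have := congrArg (fun t : Subgroup.center O => ((t : O) : H)) (e1.trans e2.symm)
      simpa using this
  refine ⟨?_, ?_, ?_⟩
  · intro v hv hcv
    have : (⟨v, hv⟩ : O) ∈ Subgroup.center O := by
      rw [Subgroup.mem_center_iff]
      rintro ⟨w, hw⟩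
      apply Subtype.ext
      exact (hcv w hw).symm
    exact hcen _ this
  · intro v hv w hw
    have hmem : ⁅(⟨v, hv⟩ : O), ⟨w, hw⟩⁆ ∈ Subgroup.center O := by
      rw [← hD]
      exact Subgroup.commutator_mem_commutator (Subgroup.mem_top _) (Subgroup.mem_top _)
    have h := hcen _ hmem
    rw [commutatorElement_def] at h
    simp only [Subgroup.coe_mul, Subgroup.coe_inv] at h
    rcases h with h | h
    · left
      calc v * w = (v * w * v⁻¹ * w⁻¹) * (w * v) := by group
        _ = w * v := by rw [h, one_mul]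
    · right
      calc v * w = (v * w * v⁻¹ * w⁻¹) * (w * v) := by group
        _ = z' * (w * v) := by rw [h]
  · intro v hv
    have hmem : (⟨v, hv⟩ : O) * ⟨v, hv⟩ ∈ Subgroup.center O := by
      rw [← hF]
      exact Cfsg.Agent.Lib.Helper93.sq_mem_frattini hP _
    have h := hcen _ hmem
    simpa using h

/-- A central involution lies in `O_2`. -/
theorem central_invol_mem_pCore {H : Type u} [Group H] (z' : H) (hzz : z' * z' = 1)
    (hzc : ∀ h : H, h * z' = z' * h) : z' ∈ Cfsg.pCore 2 H := by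
  have hle : Subgroup.zpowers z' ≤ Cfsg.pCore 2 H := by
    refine le_sSup ⟨?_, ?_⟩
    · constructor
      intro n hn g
      obtain ⟨k, rfl⟩ := Subgroup.mem_zpowers_iff.mp hn
      have hc : Commute g (z' ^ k) := Commute.zpow_right (show Commute g z' from hzc g) k
      have : g * z' ^ k * g⁻¹ = z' ^ k := by rw [hc.eq]; group
      rw [this]
      exact Subgroup.zpow_mem_zpowers z' k
    · intro y
      refine ⟨1, ?_⟩
      obtain ⟨y, k, rfl⟩ := y
      apply Subtype.ext
      simp only [pow_one, Subgroup.coe_pow, Subgroup.coe_one]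
      rw [← zpow_natCast, ← zpow_mul, mul_comm, zpow_mul, zpow_natCast, pow_two, hzz, one_zpow]
  exact hle (Subgroup.mem_zpowers z')

/-- [EXTRA] -/
theorem pkgExtra : PkgExtra.{u} := by
  intro G _ _ z hz hex hcard
  have hOP : Cfsg.pCore 2 ↥(Subgroup.centralizer ({z} : Set G)) =
      Cfsg.generalizedFittingSubgroup ↥(Subgroup.centralizer ({z} : Set G)) :=
    pCore_eq_gfs hex.1.1
  have hexO : Cfsg.IsExtraspecial 2 ↥(Cfsg.pCore 2 ↥(Subgroup.centralizer ({z} : Set G))) := by
    rw [hOP]; exact hex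
  have hOn : (Cfsg.pCore 2 ↥(Subgroup.centralizer ({z} : Set G))).Normal :=
    Cfsg.Agent.Lib.Helper93.pCore_normal 2 _
  have hzz : z * z = 1 := by rw [← pow_two, ← hz, pow_orderOf_eq_one]
  have hz1 : z ≠ 1 := by
    rintro rfl
    simp at hz
  have hzC : z ∈ Subgroup.centralizer ({z} : Set G) := by
    rw [Subgroup.mem_centralizer_iff]
    rintro _ rfl; rfl
  have hz'c : ∀ h : ↥(Subgroup.centralizer ({z} : Set G)),
      h * (⟨z, hzC⟩ : ↥(Subgroup.centralizer ({z} : Set G))) = ⟨z, hzC⟩ * h := by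
    rintro ⟨h, hh⟩
    apply Subtype.ext
    rw [Subgroup.mem_centralizer_iff] at hh
    exact (hh z rfl).symm
  have hz'O : (⟨z, hzC⟩ : ↥(Subgroup.centralizer ({z} : Set G))) ∈
      Cfsg.pCore 2 ↥(Subgroup.centralizer ({z} : Set G)) :=
    central_invol_mem_pCore _ (Subtype.ext hzz) hz'c
  have hz'1 : (⟨z, hzC⟩ : ↥(Subgroup.centralizer ({z} : Set G))) ≠ 1 := by
    intro h
    exact hz1 (congrArg Subtype.val h)
  obtain ⟨f1, f2, f3⟩ := extra_facts _ hexO _ hz'O hz'1 (fun v _ => hz'c v)
  refine ⟨?_, ?_, ?_, ?_, ?_, ?_, ?_⟩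
  · exact Subgroup.mem_map.mpr ⟨_, hz'O, rfl⟩
  · exact Subgroup.map_subtype_le _
  · intro h hh q hq
    obtain ⟨q', hq', rfl⟩ := Subgroup.mem_map.mp hq
    exact Subgroup.mem_map.mpr ⟨⟨h, hh⟩ * q' * ⟨h, hh⟩⁻¹, hOn.conj_mem q' hq' ⟨h, hh⟩, rfl⟩
  · rw [← hcard]
    exact (Nat.card_congr ((Cfsg.pCore 2 ↥(Subgroup.centralizer ({z} : Set G))).equivMapOfInjective
      (Subgroup.centralizer ({z} : Set G)).subtype (Subgroup.subtype_injective _)).toEquiv).symm
  · intro x hx
    obtain ⟨x', hx', rfl⟩ := Subgroup.mem_map.mp hx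
    rcases f3 x' hx' with h | h
    · left
      exact congrArg Subtype.val h
    · right
      exact congrArg Subtype.val h
  · intro x hx y hy
    obtain ⟨x', hx', rfl⟩ := Subgroup.mem_map.mp hx
    obtain ⟨y', hy', rfl⟩ := Subgroup.mem_map.mp hy
    rcases f2 x' hx' y' hy' with h | h
    · left
      exact congrArg Subtype.val h
    · right
      exact congrArg Subtype.val h
  · intro x hx hcx
    obtain ⟨x', hx', rfl⟩ := Subgroup.mem_map.mp hx
    have : ∀ w ∈ Cfsg.pCore 2 ↥(Subgroup.centralizer ({z} : Set G)), x' * w = w * x' := by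
      intro w hw
      apply Subtype.ext
      exact hcx _ (Subgroup.mem_map_of_mem _ hw)
    rcases f1 x' hx' this with h | h
    · left
      exact congrArg Subtype.val h
    · right
      exact congrArg Subtype.val h

end Cfsg.Agent.Lib.Helper16.HJO
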